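import Groth.Agent.WeilNumLib.Core
import Mathlib.Analysis.Polynomial.Basic
import Mathlib.Topology.Algebra.Polynomial
import Mathlib.NumberTheory.Padics.Complex
import Mathlib.RingTheory.Valuation.ValuationSubring
import Mathlib.RingTheory.Polynomial.GaussLemma
import Mathlib.FieldTheory.Perfect

set_option autoImplicit false
universe u
open Polynomial
open scoped NNReal

namespace Groth.Agent.WeilNumLib

theorem real_pos_of_no_root {G : ℝ[X]} (hm : G.Monic) (hG : ∀ x, G.eval x ≠ 0) :
    (∀ x, 0 < G.eval x) ∧ Even G.natDegree := by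
  rcases Nat.eq_zero_or_pos G.natDegree with h0 | hpos
  · rw [hm.natDegree_eq_zero.1 h0]; simp
  have hdeg : 0 < G.degree := natDegree_pos_iff_degree_pos.1 hpos
  have hall : ∀ x, 0 < G.eval x := by
    intro x
    by_contra hx
    rw [not_lt] at hx
    obtain ⟨b, hb⟩ := (Polynomial.tendsto_atTop_of_leadingCoeff_nonneg G hdeg
      (by rw [hm.leadingCoeff]; norm_num)).eventually_ge_atTop 1 |>.exists
    obtain ⟨r, hr⟩ := intermediate_value_univ x b G.continuous ⟨hx, le_trans zero_le_one hb⟩
    exact hG r hr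
  refine ⟨hall, ?_⟩
  by_contra hodd
  rw [Nat.not_even_iff_odd] at hodd
  have hnd : (G.comp (-X)).natDegree = G.natDegree := by rw [natDegree_comp]; simp
  have hlc : (G.comp (-X)).leadingCoeff = -1 := by
    rw [leadingCoeff_comp (by simp), hm.leadingCoeff, one_mul, leadingCoeff_neg, leadingCoeff_X, hodd.neg_one_pow]
  obtain ⟨b, hb⟩ := (Polynomial.tendsto_atBot_of_leadingCoeff_nonpos (G.comp (-X))
    (natDegree_pos_iff_degree_pos.1 (hnd ▸ hpos)) (by rw [hlc]; norm_num)).eventually_le_atBot (-1) |>.exists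
  rw [eval_comp, eval_neg, eval_X] at hb
  linarith [hall (-b)]

theorem irreducible_rat {P : ℤ[X]} (hm : P.Monic) (hP : Irreducible P) :
    Irreducible (P.map (algebraMap ℤ ℚ)) :=
  (IsPrimitive.Int.irreducible_iff_irreducible_map_cast hm.isPrimitive).1 hP

theorem aroots_nodup {P : ℤ[X]} (hm : P.Monic) (hP : Irreducible P) (L : Type*) [Field L] [CharZero L] :
    (P.aroots L).Nodup := by
  have h1 := ((irreducible_rat hm hP).separable).map (f := algebraMap ℚ L)
  rw [Polynomial.map_map, show (algebraMap ℚ L).comp (algebraMap ℤ ℚ) = algebraMap ℤ L from RingHom.ext_int _ _] at h1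
  exact Polynomial.nodup_roots h1

variable {q : ℤ} {K : Type u} [Field K] [CharZero K] {π : K}

theorem single (p e : ℕ) [Fact p.Prime] (hπ : IsIntegral ℤ π)
    (hweil : ∀ z ∈ (minpoly ℤ π).aroots ℂ, ‖z‖ = Real.sqrt ((p : ℝ) ^ e)) :
    Fam ((p : ℤ) ^ e) (fun _ : Unit => K) (fun _ => π) :=
  fam_of_weil p e (fun _ => hπ) (fun _ => hweil) (fun _ _ _ => rfl)

namespace Fam

variable (W : Fam q (fun _ : Unit => K) (fun _ => π))
include W

theorem single_coeff {j : ℕ} (hj : j ≤ (minpoly ℤ π).natDegree) :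
    (minpoly ℤ π).coeff j * q ^ j =
      (minpoly ℤ π).coeff 0 * (minpoly ℤ π).coeff ((minpoly ℤ π).natDegree - j) := by
  have h := W.coeff_mul_pow (n := (minpoly ℤ π).natDegree) (by simp) hj
  simpa using h

theorem nonreal (hnr : ∀ z ∈ (minpoly ℤ π).aroots ℂ, z.im ≠ 0) :
    Even (minpoly ℤ π).natDegree ∧ ∀ r ≤ (minpoly ℤ π).natDegree / 2,
      (minpoly ℤ π).coeff ((minpoly ℤ π).natDegree / 2 - r) =
        q ^ r * (minpoly ℤ π).coeff ((minpoly ℤ π).natDegree / 2 + r) := by
  have hm := W.monic_minpoly ()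
  have hG : ∀ x : ℝ, ((minpoly ℤ π).map (algebraMap ℤ ℝ)).eval x ≠ 0 := by
    intro x hx
    refine hnr (x : ℂ) (Polynomial.mem_aroots.2 ⟨hm.ne_zero, ?_⟩) (Complex.ofReal_im x)
    rw [Polynomial.eval_map_algebraMap] at hx
    have := Polynomial.aeval_algebraMap_apply ℂ x (minpoly ℤ π)
    rw [hx, map_zero] at this
    exact this
  obtain ⟨hpos, heven⟩ := real_pos_of_no_root (hm.map _) hG
  rw [hm.natDegree_map] at heven
  have hD : (minpoly ℤ π).natDegree = 2 * ((minpoly ℤ π).natDegree / 2) :=
    (Nat.two_mul_div_two_of_even heven).symm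
  obtain ⟨c, hc, hc0, hcr⟩ := W.exists_sign (D := (minpoly ℤ π).natDegree / 2) (by simpa using hD)
  simp only [Finset.univ_unique, Finset.prod_singleton] at hc0 hcr
  have hc1 : c = 1 := by
    rcases mul_self_eq_one_iff.1 hc with h | h
    · exact h
    · exfalso
      have h0 := hpos 0
      rw [← coeff_zero_eq_eval_zero, coeff_map, hc0, h, algebraMap_int_eq, eq_intCast] at h0
      have : (0 : ℝ) < (q : ℝ) ^ ((minpoly ℤ π).natDegree / 2) := pow_pos (by exact_mod_cast W.hq) _
      push_cast at h0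
      linarith
  refine ⟨heven, fun r hr => ?_⟩
  rw [hcr r hr, hc1, one_mul]

theorem root_div {L : Type*} [Field L] [CharZero L] {z : L} (hz : z ∈ (minpoly ℤ π).aroots L) :
    z ≠ 0 ∧ (q : L) / z ∈ (minpoly ℤ π).aroots L := by
  have hm := W.monic_minpoly ()
  have hz' := (Polynomial.mem_aroots.1 hz).2
  have hP0 : (minpoly ℤ π).coeff 0 ≠ 0 := by
    intro h
    have h2 := W.coeff_zero_sq (n := (minpoly ℤ π).natDegree) (by simp)
    simp only [Finset.univ_unique, Finset.prod_singleton, h] at h2
    exact pow_ne_zero _ W.hq.ne' (by rw [← h2]; ring)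
  have hz0 : z ≠ 0 := by
    intro h
    rw [h, ← coeff_zero_eq_aeval_zero', algebraMap_int_eq, eq_intCast, Int.cast_eq_zero] at hz'
    exact hP0 hz'
  refine ⟨hz0, Polynomial.mem_aroots.2 ⟨hm.ne_zero, ?_⟩⟩
  set n := (minpoly ℤ π).natDegree
  refine (mul_eq_zero.1 (?_ : z ^ n * aeval ((q : L) / z) (minpoly ℤ π) = 0)).resolve_left (pow_ne_zero _ hz0)
  rw [aeval_eq_sum_range, Finset.mul_sum]
  calc ∑ j ∈ Finset.range (n + 1), z ^ n * ((minpoly ℤ π).coeff j • ((q : L) / z) ^ j)
      = ∑ j ∈ Finset.range (n + 1), ((minpoly ℤ π).coeff 0 : L) * ((minpoly ℤ π).coeff (n - j) • z ^ (n - j)) := by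
        refine Finset.sum_congr rfl fun j hj => ?_
        rw [Finset.mem_range] at hj
        have h1 := congrArg (Int.cast : ℤ → L) (W.single_coeff (j := j) (by omega))
        push_cast at h1
        rw [show z ^ n = z ^ (n - j) * z ^ j by rw [← pow_add, Nat.sub_add_cancel (by omega)], zsmul_eq_mul,
          zsmul_eq_mul, div_pow, ← mul_assoc ((minpoly ℤ π).coeff 0 : L), ← h1]
        field_simp
    _ = 0 := by
        rw [← Finset.mul_sum, Finset.sum_range_reflect (fun j => (minpoly ℤ π).coeff j • z ^ j) (n + 1) |>.symm.trans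
          (Finset.sum_congr rfl fun j hj => by congr 1) |>.symm.trans rfl]
        rw [← aeval_eq_sum_range, hz', mul_zero]

end Fam

theorem ordinary_iff_aux (p e : ℕ) [Fact p.Prime] (he : 0 < e) (hπ : IsIntegral ℤ π)
    (hweil : ∀ z ∈ (minpoly ℤ π).aroots ℂ, ‖z‖ = Real.sqrt ((p : ℝ) ^ e))
    {d : ℕ} (hd : (minpoly ℤ π).natDegree = 2 * d)
    (L : Type*) [NormedField L] [IsAlgClosed L] [CharZero L] (hvp : ‖(p : L)‖ < 1)
    (O : ValuationSubring L) (hmemO : ∀ z : L, z ∈ O ↔ ‖z‖ ≤ 1) :
    2 * Multiset.card (((minpoly ℤ π).aroots L).filter (fun z => ‖z‖ = 1)) =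
        (minpoly ℤ π).natDegree ↔ ¬ (p : ℤ) ∣ (minpoly ℤ π).coeff d := by
  classical
  have W := single p e hπ hweil
  set P := minpoly ℤ π with hPdef
  have hm : P.Monic := W.monic_minpoly ()
  have hres : ∀ z : O, IsLocalRing.residue O z = 0 ↔ ‖(z : L)‖ ≠ 1 := by
    intro z
    rw [IsLocalRing.residue_eq_zero_iff, IsLocalRing.mem_maximalIdeal, mem_nonunits_iff, not_iff_not]
    constructor
    · rintro ⟨w, rfl⟩
      have h1 : ((w : O) : L) * ((w⁻¹ : Oˣ) : O) = 1 := by
        exact_mod_cast congrArg Subtype.val w.mul_inv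
      have h2 := congrArg norm h1
      rw [norm_mul, norm_one] at h2
      have a1 := (hmemO _).1 (w : O).2
      have a2 := (hmemO _).1 ((w⁻¹ : Oˣ) : O).2
      nlinarith [norm_nonneg ((w : O) : L)]
    · intro h
      have hz0 : (z : L) ≠ 0 := fun h0 => by rw [h0, norm_zero] at h; exact zero_ne_one h
      exact IsUnit.of_mul_eq_one (⟨(z : L)⁻¹, (hmemO _).2 (by rw [norm_inv, h, inv_one])⟩ : O)
        (Subtype.ext (mul_inv_cancel₀ hz0))
  have hint : ∀ z ∈ P.aroots L, z ∈ O := by
    intro z hz
    have hzi : IsIntegral ℤ z := ⟨P, hm, (Polynomial.mem_aroots.1 hz).2⟩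
    obtain ⟨y, hy⟩ := (IsIntegrallyClosed.isIntegral_iff (R := O) (K := L)).1 hzi.tower_top
    exact hy ▸ y.2
  let ρ : O →+* IsLocalRing.ResidueField O := IsLocalRing.residue O
  let roots : Multiset O := (P.aroots L).attach.map fun z => ⟨z.1, hint z.1 z.2⟩
  have hrootsL : roots.map (fun z : O => (z : L)) = P.aroots L := by
    simp only [roots, Multiset.map_map, Function.comp_def]
    exact Multiset.attach_map_val _
  have hPO : P.map (algebraMap ℤ O) = (roots.map fun z => X - C z).prod := by
    apply Polynomial.map_injective O.subtype Subtype.val_injective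
    rw [Polynomial.map_map, Polynomial.map_multiset_prod, Multiset.map_map]
    rw [show O.subtype.comp (algebraMap ℤ O) = algebraMap ℤ L from RingHom.ext_int _ _]
    rw [show roots.map (Polynomial.map O.subtype ∘ fun z => X - C z) =
        (roots.map (fun z : O => (z : L))).map (fun z => X - C z) by
      exact (Multiset.map_congr rfl fun z _ => by simp [Polynomial.map_sub]).trans
        (Multiset.map_map (fun z : L => X - C z) (fun z : O => (z : L)) roots).symm, hrootsL]
    exact Polynomial.Splits.eq_prod_roots_of_monic (IsAlgClosed.splits _) (hm.map _)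
  set U := roots.filter (fun z : O => ‖(z : L)‖ = 1) with hU
  set N := roots.filter (fun z : O => ¬ ‖(z : L)‖ = 1) with hN
  have hUN : U + N = roots := Multiset.filter_add_not _ _
  have hcard : Multiset.card U + Multiset.card N = 2 * d := by
    rw [← Multiset.card_add, hUN, ← hd]
    simp only [roots, Multiset.card_map, Multiset.card_attach]
    rw [aroots, ← (IsAlgClosed.splits (P.map (algebraMap ℤ L))).natDegree_eq_card_roots, hm.natDegree_map]
  have hUcard : Multiset.card ((P.aroots L).filter (fun z => ‖z‖ = 1)) = Multiset.card U := by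
    rw [← hrootsL, Multiset.filter_map, Multiset.card_map, hU]; rfl
  -- the unit roots inject into the non-unit ones
  have hle : Multiset.card U ≤ Multiset.card N := by
    have hnd := aroots_nodup hm (W.irreducible_minpoly ()) L
    have hNcard : Multiset.card ((P.aroots L).filter (fun z => ¬ ‖z‖ = 1)) = Multiset.card N := by
      rw [← hrootsL, Multiset.filter_map, Multiset.card_map, hN]; rfl
    rw [← hUcard, ← hNcard, ← Multiset.toFinset_card_of_nodup (hnd.filter _),
      ← Multiset.toFinset_card_of_nodup (hnd.filter _)]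
    refine Finset.card_le_card_of_injOn (fun z => (((p : ℤ) ^ e : ℤ) : L) / z) ?_ ?_
    · intro z hz
      simp only [Finset.mem_coe, Multiset.mem_toFinset, Multiset.mem_filter] at hz ⊢
      refine ⟨(W.root_div hz.1).2, ?_⟩
      rw [norm_div, hz.2, div_one]
      push_cast
      rw [norm_pow]
      exact ne_of_lt (pow_lt_one₀ (norm_nonneg _) hvp he.ne')
    · intro a ha b hb hab
      simp only [Finset.mem_coe, Multiset.mem_toFinset, Multiset.mem_filter] at ha hb
      have hq0 : (((p : ℤ) ^ e : ℤ) : L) ≠ 0 := by exact_mod_cast W.hq.ne'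
      have h := (div_eq_div_iff (W.root_div ha.1).1 (W.root_div hb.1).1).1 hab
      exact (mul_left_cancel₀ hq0 h).symm
  have hPk : P.map (algebraMap ℤ (IsLocalRing.ResidueField O)) =
      X ^ Multiset.card N * (U.map fun z => X - C (ρ z)).prod := by
    rw [show algebraMap ℤ (IsLocalRing.ResidueField O) = ρ.comp (algebraMap ℤ O) from RingHom.ext_int _ _,
      ← Polynomial.map_map, hPO, Polynomial.map_multiset_prod, Multiset.map_map, ← hUN, Multiset.map_add,
      Multiset.prod_add, mul_comm]
    congr 1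
    · rw [Multiset.map_congr rfl (g := fun _ => (X : (IsLocalRing.ResidueField O)[X])) fun z hz => ?_]
      · simp
      · have : ρ z = 0 := (hres z).2 (Multiset.mem_filter.1 hz).2
        simp [this]
    · exact congrArg Multiset.prod (Multiset.map_congr rfl fun z _ => by simp)
  have hcoeffN : ((P.coeff (Multiset.card N) : ℤ) : IsLocalRing.ResidueField O) ≠ 0 := by
    have := congrArg (fun G => Polynomial.coeff G (Multiset.card N)) hPk
    simp only [coeff_map, coeff_X_pow_mul', le_refl, if_true, Nat.sub_self, algebraMap_int_eq, eq_intCast] at this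
    rw [this, coeff_zero_multiset_prod, Multiset.map_map]
    refine Multiset.prod_ne_zero fun h0 => ?_
    obtain ⟨z, hz, hz0⟩ := Multiset.mem_map.1 h0
    have : ρ z = 0 := by simpa using hz0
    exact (hres z).1 this (Multiset.mem_filter.1 hz).2
  have hcoefflow : ∀ j < Multiset.card N, ((P.coeff j : ℤ) : IsLocalRing.ResidueField O) = 0 := by
    intro j hj
    have := congrArg (fun G => Polynomial.coeff G j) hPk
    simpa [coeff_X_pow_mul', not_le.2 hj] using this
  have hp0 : ((p : ℤ) : IsLocalRing.ResidueField O) = 0 := by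
    rw [show ((p : ℤ) : IsLocalRing.ResidueField O) = ρ (p : O) by simp, hres]
    simpa using hvp.ne
  rw [hUcard, hd]
  constructor
  · intro h hdvd
    apply hcoeffN
    rw [show Multiset.card N = d by omega]
    obtain ⟨c, hc⟩ := hdvd
    rw [hc, Int.cast_mul, hp0, zero_mul]
  · intro h
    have hND : Multiset.card N ≤ d := by
      by_contra hlt
      rw [not_le] at hlt
      have hcop : IsCoprime (p : ℤ) (P.coeff d) :=
        ((Nat.prime_iff_prime_int.1 (Fact.out : p.Prime)).coprime_iff_not_dvd).2 h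
      obtain ⟨a, b, hab⟩ := hcop
      have := congrArg (Int.cast : ℤ → IsLocalRing.ResidueField O) hab
      push_cast at this hp0
      rw [hp0, hcoefflow d hlt, mul_zero, mul_zero, add_zero] at this
      exact zero_ne_one this
    omega

theorem ordinary_iff (p e : ℕ) [Fact p.Prime] (he : 0 < e) (hπ : IsIntegral ℤ π)
    (hweil : ∀ z ∈ (minpoly ℤ π).aroots ℂ, ‖z‖ = Real.sqrt ((p : ℝ) ^ e))
    {d : ℕ} (hd : (minpoly ℤ π).natDegree = 2 * d) :
    2 * Multiset.card (((minpoly ℤ π).aroots (PadicAlgCl p)).filter (fun z => ‖z‖ = 1)) =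
        (minpoly ℤ π).natDegree ↔ ¬ (p : ℤ) ∣ (minpoly ℤ π).coeff d := by
  refine ordinary_iff_aux p e he hπ hweil hd (PadicAlgCl p) ?_
    (Valuation.valuationSubring (Valued.v : Valuation (PadicAlgCl p) ℝ≥0)) (fun z => ?_)
  · rw [← PadicAlgCl.valuation_coe, PadicAlgCl.valuation_p, one_div, NNReal.coe_inv, NNReal.coe_natCast]
    exact inv_lt_one_of_one_lt₀ (by exact_mod_cast (Fact.out : p.Prime).one_lt)
  · rw [Valuation.mem_valuationSubring_iff, ← NNReal.coe_le_coe]; rfl

end Groth.Agent.WeilNumLib
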