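import Groth.Agent.WeilNumLib.Core
import Groth.Agent.LC.GorLCI
import Mathlib.RingTheory.Ideal.GoingUp
import Mathlib.RingTheory.KrullDimension.PID
import Mathlib.RingTheory.Regular.RegularSequence
import Mathlib.RingTheory.RegularLocalRing.Polynomial

set_option autoImplicit false
universe u
open Groth.Agent.DefGlueLib (dot trivR dot_apply)

namespace Groth.Agent.WeilNumLib

variable {ι : Type} {K : ι → Type u} [∀ i, Field (K i)] [∀ i, CharZero (K i)] {π : ∀ i, K i}

theorem aeval_eq_toProd (p e : ℕ) :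
    (MvPolynomial.aeval ![fun i => π i, fun i => ((p : K i) ^ e) / π i] :
        MvPolynomial (Fin 2) ℤ →ₐ[ℤ] ((i : ι) → K i)) = toProd ((p : ℤ) ^ e) π := by
  simp [toProd]

theorem isWeaklyRegular_pair {P : Type*} [CommRing P] [IsDomain P] {a b : P} (ha : a ≠ 0)
    (hb : ∀ g, b * g ∈ Ideal.span {a} → g ∈ Ideal.span {a}) :
    RingTheory.Sequence.IsWeaklyRegular P [a, b] := by
  rw [RingTheory.Sequence.isWeaklyRegular_cons_iff, RingTheory.Sequence.isWeaklyRegular_singleton_iff]
  refine ⟨fun x y h => mul_left_cancel₀ ha h, ?_⟩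
  have hmem : ∀ z : P, (Submodule.Quotient.mk z : QuotSMulTop a P) = 0 ↔ z ∈ Ideal.span {a} := by
    intro z
    rw [Submodule.Quotient.mk_eq_zero, Submodule.mem_smul_pointwise_iff_exists, Ideal.mem_span_singleton']
    simp [mul_comm a]
  rw [isSMulRegular_iff_right_eq_zero_of_smul]
  intro z hz
  obtain ⟨z, rfl⟩ := Submodule.Quotient.mk_surjective _ z
  rw [← Submodule.Quotient.mk_smul, hmem] at hz
  exact (hmem z).2 (hb z hz)

theorem rel_pair {P : Type*} [CommRing P] [IsDomain P] {a b : P} (ha : a ≠ 0)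
    (hb : ∀ g, b * g ∈ Ideal.span {a} → g ∈ Ideal.span {a}) (v : Fin 2 → P)
    (hv : dot ![a, b] v = 0) : v ∈ trivR ![a, b] := by
  rw [dot_apply, Fin.sum_univ_two] at hv
  simp only [Matrix.cons_val_zero, Matrix.cons_val_one] at hv
  obtain ⟨c, hc⟩ := Ideal.mem_span_singleton.1 (hb (v 1)
    (Ideal.mem_span_singleton.2 ⟨-v 0, by linear_combination hv⟩))
  have h0 : v 0 = -(c * b) := mul_right_cancel₀ ha (by rw [hc] at hv; linear_combination hv)
  refine Submodule.mem_span.2 fun N hN => ?_
  have := N.smul_mem c (hN ⟨(1, 0), rfl⟩)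
  convert this using 1
  funext i
  fin_cases i
  · simp [h0]
  · simp [hc, mul_comm]

theorem rel_ne_zero {q : ℤ} (hq : q ≠ 0) : rel q ≠ 0 := by
  intro h
  have := congrArg (MvPolynomial.eval (0 : Fin 2 → ℤ)) h
  simp [rel, hq] at this

namespace Fam

variable {q : ℤ} [Fintype ι] (W : Fam q K π) {D : ℕ}
include W

theorem mul_h_mem {h : MvPolynomial (Fin 2) ℤ}
    (hh : MvPolynomial.X 0 ^ D * h - Polynomial.aeval (MvPolynomial.X 0 : MvPolynomial (Fin 2) ℤ)
      (∏ i, minpoly ℤ (π i)) ∈ Ideal.span {rel q}) (g : MvPolynomial (Fin 2) ℤ)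
    (hg : h * g ∈ Ideal.span {rel q}) : g ∈ Ideal.span {rel q} :=
  mem_of_mul_mem W.hq.ne' W.prod_monic.ne_zero hh hg

theorem gorenstein (hD : ∑ i, (minpoly ℤ (π i)).natDegree = 2 * D) :
    LocCoh.IsGorensteinRing.{u} (toProd q π).range := by
  obtain ⟨c, -, hh⟩ := W.exists_h hD
  obtain ⟨hker, -, -, -⟩ := W.ker_and_rank hD hh
  haveI : LocCoh.IsGorensteinRing (MvPolynomial (Fin 2) (ULift.{u} ℤ)) := by
    haveI : IsRegularRing (ULift.{u} ℤ) := IsRegularRing.of_ringEquiv (ULift.ringEquiv (R := ℤ)).symm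
    exact LC.gorensteinRing_of_isRegularRing _
  let e : MvPolynomial (Fin 2) (ULift.{u} ℤ) ≃+* MvPolynomial (Fin 2) ℤ :=
    MvPolynomial.mapEquiv (Fin 2) ULift.ringEquiv
  let φ : MvPolynomial (Fin 2) (ULift.{u} ℤ) →+* (toProd q π).range :=
    (toProd q π).rangeRestrict.toRingHom.comp e.toRingHom
  have hφ : Function.Surjective φ := fun r => by
    obtain ⟨r, a, rfl⟩ := r
    obtain ⟨b, rfl⟩ := e.surjective a
    exact ⟨b, rfl⟩
  haveI : IsNoetherianRing (toProd q π).range := isNoetherianRing_of_surjective _ _ φ hφ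
  set h : MvPolynomial (Fin 2) ℤ := (∑ r ∈ Finset.range (D + 1),
          MvPolynomial.C ((∏ i, minpoly ℤ (π i)).coeff (D + r)) * MvPolynomial.X 0 ^ r) +
        ∑ r ∈ Finset.range D, MvPolynomial.C (c * (∏ i, minpoly ℤ (π i)).coeff (D + r + 1)) *
          MvPolynomial.X 1 ^ (r + 1)
  refine LC.gorensteinRing_of_atPrime fun P _ => ?_
  haveI : IsLocalization (⊥ : Submonoid (MvPolynomial (Fin 2) (ULift.{u} ℤ))) (MvPolynomial (Fin 2) (ULift.{u} ℤ)) :=
    IsLocalization.self bot_le
  refine LC.gorenstein_atPrime_of_rel φ hφ P ⊥ ?_ (MvPolynomial (Fin 2) (ULift.{u} ℤ))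
    ![e.symm (rel q), e.symm h] ?_ ?_
  · intro x hx
    rw [Submonoid.mem_bot] at hx
    rw [hx, map_one]
    exact fun h1 => (Ideal.IsPrime.ne_top inferInstance) ((Ideal.eq_top_iff_one _).2 h1)
  · intro v hv
    haveI : IsDomain (MvPolynomial (Fin 2) (ULift.{u} ℤ)) := e.toMulEquiv.isDomain _
    refine rel_pair ?_ (fun g hg => ?_) v hv
    · simpa using rel_ne_zero W.hq.ne'
    · obtain ⟨w, hw⟩ := Ideal.mem_span_singleton.1 hg
      obtain ⟨w', hw'⟩ := Ideal.mem_span_singleton.1 (W.mul_h_mem hh (e g) (Ideal.mem_span_singleton.2 ⟨e w, by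
        simpa using congrArg e hw⟩))
      exact Ideal.mem_span_singleton.2 ⟨e.symm w', e.injective (by simpa using hw')⟩
  · have : RingHom.ker φ = Ideal.comap e.toRingHom (Ideal.span {rel q, h}) := by
      rw [← hker]
      ext a
      simp only [Ideal.mem_comap, RingHom.mem_ker, φ, RingHom.comp_apply]
      exact Subtype.ext_iff
    rw [Algebra.algebraMap_self, Ideal.map_id, this]
    show _ = Ideal.comap e (Ideal.span {rel q, h})
    rw [← Ideal.map_symm, Ideal.map_span, Set.image_pair, Matrix.range_cons, Matrix.range_cons, Matrix.range_empty,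
      Set.union_empty, Set.singleton_union]

theorem krullDim [Nonempty ι] (hD : ∑ i, (minpoly ℤ (π i)).natDegree = 2 * D) :
    ringKrullDim (toProd q π).range = 1 := by
  obtain ⟨c, -, hh⟩ := W.exists_h hD
  obtain ⟨-, -, hfin, -⟩ := W.ker_and_rank hD hh
  let R := (toProd q π).range
  haveI : Algebra.IsIntegral ℤ R := Algebra.IsIntegral.of_finite ℤ R
  have hinj : Function.Injective (algebraMap ℤ R) := by
    intro a b hab
    have := congrFun (congrArg Subtype.val hab) (Classical.arbitrary ι)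
    simpa using this
  apply le_antisymm
  · refine le_trans (Order.krullDim_le_of_strictMono (PrimeSpectrum.comap (algebraMap ℤ R)) ?_) ?_
    · intro P Q hPQ
      exact Ideal.IsIntegral.comap_lt_comap (R := ℤ) hPQ
    · exact le_of_eq (IsPrincipalIdealRing.ringKrullDim_eq_one ℤ Int.not_isField)
  · obtain ⟨P0, -, hP0, hP0c⟩ := Ideal.exists_ideal_over_prime_of_isIntegral (⊥ : Ideal ℤ) (⊥ : Ideal R)
      (by rw [← RingHom.ker, (RingHom.injective_iff_ker_eq_bot _).1 hinj])
    haveI : (Ideal.span {(2 : ℤ)}).IsPrime :=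
      (Ideal.span_singleton_prime two_ne_zero).2 Int.prime_two
    obtain ⟨P1, hP1le, hP1, hP1c⟩ := Ideal.exists_ideal_over_prime_of_isIntegral (Ideal.span {(2 : ℤ)}) P0
      (by rw [hP0c]; exact bot_le)
    have hlt : P0 < P1 := by
      refine lt_of_le_of_ne hP1le fun h => ?_
      rw [h, hP1c, Ideal.span_singleton_eq_bot] at hP0c
      exact two_ne_zero hP0c
    exact Order.le_krullDim_iff.2 ⟨RelSeries.cons (RelSeries.singleton _ (⟨P1, hP1⟩ : PrimeSpectrum R))
      ⟨P0, hP0⟩ hlt, rfl⟩

/-- The criterion for an endomorphism to come from a module structure. -/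
theorem module_iff {T : Type} [AddCommGroup T] [Module.Free ℤ T] [Module.Finite ℤ T]
    (hq : q ≠ 0) (FT : T →ₗ[ℤ] T) :
    (∃ _ : Module (toProd q π).range T,
        ∀ t : T, (⟨toProd q π (MvPolynomial.X 0), AlgHom.mem_range_self _ _⟩ : (toProd q π).range) • t = FT t) ↔
      (Polynomial.aeval FT (∏ i, minpoly ℤ (π i)) = 0 ∧ ∃ VT : T →ₗ[ℤ] T, FT ∘ₗ VT = q • LinearMap.id) := by
  classical
  constructor
  · rintro ⟨inst, hF⟩
    let ρ : (toProd q π).range →+* Module.End ℤ T :=
      { toFun := fun r => (DistribSMul.toAddMonoidHom T r).toIntLinearMap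
        map_one' := LinearMap.ext fun t => one_smul _ t
        map_mul' := fun r s => LinearMap.ext fun t => mul_smul r s t
        map_zero' := LinearMap.ext fun t => zero_smul _ t
        map_add' := fun r s => LinearMap.ext fun t => add_smul r s t }
    let ψ : MvPolynomial (Fin 2) ℤ →ₐ[ℤ] Module.End ℤ T :=
      ρ.toIntAlgHom.comp (toProd q π).rangeRestrict
    have hψ0 : ψ (MvPolynomial.X 0) = FT := LinearMap.ext hF
    refine ⟨?_, ψ (MvPolynomial.X 1), ?_⟩
    · rw [← hψ0, Polynomial.aeval_algHom_apply]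
      show ρ ((toProd q π).rangeRestrict _) = 0
      rw [show (toProd q π).rangeRestrict
        (Polynomial.aeval (MvPolynomial.X 0 : MvPolynomial (Fin 2) ℤ) (∏ i, minpoly ℤ (π i))) = 0 from
          Subtype.ext ((W.toProd_aeval_eq_zero_iff _).2 dvd_rfl), map_zero]
    · rw [← hψ0]
      show ψ (MvPolynomial.X 0) * ψ (MvPolynomial.X 1) = _
      have : ψ (rel q) = 0 := by
        show ρ ((toProd q π).rangeRestrict _) = 0
        rw [show (toProd q π).rangeRestrict (rel q) = 0 from Subtype.ext W.toProd_rel, map_zero]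
      rw [rel, map_sub, map_mul, sub_eq_zero, ← MvPolynomial.algebraMap_eq, AlgHom.commutes] at this
      rw [this]; exact Algebra.algebraMap_eq_smul_one (R := ℤ) (A := Module.End ℤ T) q
  · rintro ⟨hP, VT, hV⟩
    have hinjF : Function.Injective FT := by
      intro a b hab
      rw [← sub_eq_zero] at hab ⊢
      rw [← map_sub] at hab
      set G := ∏ i, minpoly ℤ (π i)
      have h1 := congrArg (fun f : Module.End ℤ T => f (a - b)) hP
      rw [← Polynomial.divX_mul_X_add G] at h1
      simp only [map_add, map_mul, Polynomial.aeval_X, Polynomial.aeval_C, LinearMap.add_apply,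
        Module.End.mul_apply, hab, map_zero, zero_add, LinearMap.zero_apply, Module.algebraMap_end_apply] at h1
      refine (smul_eq_zero.1 h1).resolve_left fun h0 => ?_
      have h2 := W.coeff_zero_sq (n := ∑ i, (minpoly ℤ (π i)).natDegree) rfl
      rw [show G.coeff 0 = 0 from h0] at h2
      exact pow_ne_zero _ hq (by rw [← h2]; ring)
    have hFV : (FT : Module.End ℤ T) * VT = q • 1 := hV
    have hcomm : (FT : Module.End ℤ T) * VT = VT * FT := by
      refine LinearMap.ext fun t => hinjF ?_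
      have e1 := LinearMap.congr_fun hFV t
      have e2 := LinearMap.congr_fun hFV (FT t)
      simp only [Module.End.mul_apply, LinearMap.smul_apply, Module.End.one_apply] at e1 e2 ⊢
      rw [e2, e1, map_zsmul]
    have hc : ∀ a ∈ ({FT, VT} : Set (Module.End ℤ T)), ∀ b ∈ ({FT, VT} : Set (Module.End ℤ T)), a * b = b * a := by
      rintro a (rfl | rfl) b (rfl | rfl) <;> first | rfl | exact hcomm | exact hcomm.symm
    let S := Algebra.adjoin ℤ ({FT, VT} : Set (Module.End ℤ T))
    letI : CommRing S := Algebra.adjoinCommRingOfComm ℤ hc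
    let α : MvPolynomial (Fin 2) ℤ →+* S := MvPolynomial.eval₂Hom (Int.castRingHom S)
      ![⟨FT, Algebra.subset_adjoin (Set.mem_insert _ _)⟩, ⟨VT, Algebra.subset_adjoin (Set.mem_insert_of_mem _ rfl)⟩]
    let β : MvPolynomial (Fin 2) ℤ →+* Module.End ℤ T := S.val.toRingHom.comp α
    have hβ0 : β (MvPolynomial.X 0) = FT := by simp [β, α]
    have hβ1 : β (MvPolynomial.X 1) = VT := by simp [β, α]
    have hrel : β (rel q) = 0 := by
      rw [rel, map_sub, map_mul, hβ0, hβ1, hFV, show β (MvPolynomial.C q) = (q : Module.End ℤ T) by simp [β, α],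
        zsmul_one, sub_self]
    have hker : RingHom.ker (toProd q π).rangeRestrict.toRingHom ≤ RingHom.ker β := by
      intro g hg
      obtain ⟨m, G, hm⟩ := exists_clear q g
      have hg' : toProd q π g = 0 := congrArg Subtype.val hg
      have h3 := W.span_rel_le_ker hm
      rw [RingHom.mem_ker, map_sub, map_mul, hg', mul_zero, zero_sub, neg_eq_zero,
        W.toProd_aeval_eq_zero_iff] at h3
      obtain ⟨w, hw⟩ := Ideal.mem_span_singleton.1 hm
      have h4 := congrArg β hw
      rw [map_sub, map_mul, map_mul, map_pow, hβ0, hrel, zero_mul] at h4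
      have h5 : β (Polynomial.aeval (MvPolynomial.X 0 : MvPolynomial (Fin 2) ℤ) G) = 0 := by
        obtain ⟨G', rfl⟩ := h3
        have : β (Polynomial.aeval (MvPolynomial.X 0 : MvPolynomial (Fin 2) ℤ) (∏ i, minpoly ℤ (π i))) = 0 := by
          show β.toIntAlgHom (Polynomial.aeval _ _) = 0
          rw [← Polynomial.aeval_algHom_apply, show β.toIntAlgHom (MvPolynomial.X 0) = FT from hβ0]
          exact hP
        rw [map_mul, map_mul, this, zero_mul]
      rw [h5, sub_zero] at h4
      rw [RingHom.mem_ker]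
      refine LinearMap.ext fun t => ?_
      have key : ∀ (m : ℕ) (f : Module.End ℤ T), (FT : Module.End ℤ T) ^ m * f = 0 → f = 0 := by
        intro m
        induction m with
        | zero => intro f hf; simpa using hf
        | succ m ih =>
          intro f hf
          refine LinearMap.ext fun t => hinjF ?_
          rw [pow_succ, mul_assoc] at hf
          simpa using LinearMap.congr_fun (ih _ hf) t
      rw [key m _ h4]
    have hsurj : Function.Surjective (toProd q π).rangeRestrict.toRingHom := fun r => by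
      obtain ⟨r, a, rfl⟩ := r; exact ⟨a, rfl⟩
    let γ := RingHom.liftOfSurjective (toProd q π).rangeRestrict.toRingHom hsurj ⟨β, hker⟩
    refine ⟨Module.compHom T γ, fun t => ?_⟩
    show γ ((toProd q π).rangeRestrict.toRingHom (MvPolynomial.X 0)) t = FT t
    rw [show γ ((toProd q π).rangeRestrict.toRingHom (MvPolynomial.X 0)) = β (MvPolynomial.X 0) from
      RingHom.liftOfRightInverse_comp_apply _ _ _ ⟨β, hker⟩ _, hβ0]

end Fam

end Groth.Agent.WeilNumLib
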