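import Mathlib.FieldTheory.Minpoly.IsIntegrallyClosed
import Mathlib.Analysis.Complex.Basic
import Mathlib.Analysis.Complex.Polynomial.Basic
import Mathlib.RingTheory.MvPolynomial.Basic
import Mathlib.Algebra.MvPolynomial.CommRing
import Mathlib.RingTheory.Polynomial.UniqueFactorization
import Mathlib.LinearAlgebra.FreeModule.PID
import Mathlib.LinearAlgebra.Dimension.Free
import Mathlib.Tactic

/-!
# The ring `ℤ[F,V]/(FV - q, h)` of a finite family of Weil `q`-numbers
-/

set_option autoImplicit false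
universe u
open Polynomial Finset

namespace Groth.Agent.WeilNumLib

/-- A finite family of pairwise non-conjugate Weil `q`-numbers, in algebraic form. -/
structure Fam (q : ℤ) {ι : Type} (K : ι → Type u) [∀ i, Field (K i)] (π : ∀ i, K i) : Prop where
  hq : 0 < q
  hint : ∀ i, IsIntegral ℤ (π i)
  hconj : ∀ i, ∀ z ∈ (minpoly ℤ (π i)).aroots ℂ, z * (starRingEnd ℂ) z = (q : ℂ)
  hinj : ∀ i j, minpoly ℤ (π i) = minpoly ℤ (π j) → i = j

variable {q : ℤ} {ι : Type} {K : ι → Type u} [∀ i, Field (K i)] [∀ i, CharZero (K i)] {π : ∀ i, K i}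

theorem fam_of_weil (p e : ℕ) [Fact p.Prime] (hint : ∀ i, IsIntegral ℤ (π i))
    (hweil : ∀ i, ∀ z ∈ (minpoly ℤ (π i)).aroots ℂ, ‖z‖ = Real.sqrt ((p : ℝ) ^ e))
    (hinj : ∀ i j, minpoly ℤ (π i) = minpoly ℤ (π j) → i = j) : Fam ((p : ℤ) ^ e) K π where
  hq := pow_pos (by exact_mod_cast (Fact.out : p.Prime).pos) e
  hint := hint
  hinj := hinj
  hconj i z hz := by
    rw [Complex.mul_conj, Complex.normSq_eq_norm_sq, hweil i z hz, Real.sq_sqrt (by positivity)]
    push_cast; ring

namespace Fam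

variable (W : Fam q K π)
include W

theorem monic_minpoly (i : ι) : (minpoly ℤ (π i)).Monic := minpoly.monic (W.hint i)

theorem irreducible_minpoly (i : ι) : Irreducible (minpoly ℤ (π i)) := minpoly.irreducible (W.hint i)

theorem exists_root (i : ι) : ∃ z, z ∈ (minpoly ℤ (π i)).aroots ℂ := by
  obtain ⟨z, hz⟩ := IsAlgClosed.exists_aeval_eq_zero ℂ (minpoly ℤ (π i)) (by
    intro h
    have h0 := Polynomial.natDegree_eq_of_degree_eq_some h
    exact (minpoly.natDegree_pos (W.hint i)).ne' h0)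
  exact ⟨z, Polynomial.mem_aroots.2 ⟨(W.monic_minpoly i).ne_zero, hz⟩⟩

theorem root_ne_zero {i : ι} {z : ℂ} (hz : z ∈ (minpoly ℤ (π i)).aroots ℂ) : z ≠ 0 := by
  intro h
  have := W.hconj i z hz
  rw [h, zero_mul] at this
  exact W.hq.ne' (by exact_mod_cast this.symm)

theorem dvd_of_root {i : ι} {z : ℂ} (hz : z ∈ (minpoly ℤ (π i)).aroots ℂ) {G : ℤ[X]}
    (hG : aeval z G = 0) : minpoly ℤ (π i) ∣ G := by
  have hz' := (Polynomial.mem_aroots.1 hz).2
  have hzi : IsIntegral ℤ z := ⟨_, W.monic_minpoly i, hz'⟩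
  have h1 := minpoly.isIntegrallyClosed_dvd hzi hz'
  have h2 : minpoly ℤ z = minpoly ℤ (π i) :=
    eq_of_monic_of_associated (minpoly.monic hzi) (W.monic_minpoly i)
      ((minpoly.irreducible hzi).associated_of_dvd (W.irreducible_minpoly i) h1)
  rw [← h2]
  exact minpoly.isIntegrallyClosed_dvd hzi hG

theorem pi_ne_zero (i : ι) : π i ≠ 0 := by
  intro h
  obtain ⟨z, hz⟩ := W.exists_root i
  refine W.root_ne_zero hz ?_
  have h1 : minpoly ℤ (π i) ∣ X := minpoly.isIntegrallyClosed_dvd (W.hint i) (by simpa using h)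
  obtain ⟨c, hc⟩ := h1
  have := congrArg (aeval z) hc
  rwa [aeval_X, map_mul, (Polynomial.mem_aroots.1 hz).2, zero_mul] at this

variable [Fintype ι]

theorem prod_monic : (∏ i, minpoly ℤ (π i)).Monic := monic_prod_of_monic _ _ fun i _ => W.monic_minpoly i

theorem prod_natDegree : (∏ i, minpoly ℤ (π i)).natDegree = ∑ i, (minpoly ℤ (π i)).natDegree :=
  natDegree_prod_of_monic _ _ fun i _ => W.monic_minpoly i

theorem prod_dvd {G : ℤ[X]} (h : ∀ i, minpoly ℤ (π i) ∣ G) : (∏ i, minpoly ℤ (π i)) ∣ G := by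
  refine Finset.prod_dvd_of_isRelPrime (fun i _ j _ hij => ?_) fun i _ => h i
  refine (W.irreducible_minpoly i).isRelPrime_iff_not_dvd.2 fun hd => hij (W.hinj i j ?_)
  exact eq_of_monic_of_associated (W.monic_minpoly i) (W.monic_minpoly j)
    ((W.irreducible_minpoly i).associated_of_dvd (W.irreducible_minpoly j) hd)

/-- Functional equation of the product of the minimal polynomials. -/
theorem coeff_mul_pow {n : ℕ} (hn : ∑ i, (minpoly ℤ (π i)).natDegree = n) {j : ℕ} (hj : j ≤ n) :
    (∏ i, minpoly ℤ (π i)).coeff j * q ^ j =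
      (∏ i, minpoly ℤ (π i)).coeff 0 * (∏ i, minpoly ℤ (π i)).coeff (n - j) := by
  classical
  set P := ∏ i, minpoly ℤ (π i) with hP
  have hdeg : P.natDegree = n := by rw [hP, W.prod_natDegree, hn]
  let Q : ℤ[X] := ∑ j ∈ range (n + 1), C (P.coeff j * q ^ j) * X ^ (n - j)
  have hQc : ∀ j ≤ n, Q.coeff (n - j) = P.coeff j * q ^ j := by
    intro j hj
    simp only [Q, finsetSum_coeff, coeff_C_mul, coeff_X_pow]
    rw [Finset.sum_eq_single j]
    · simp
    · intro b hb hbj
      rw [Finset.mem_range] at hb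
      rw [if_neg (by omega), mul_zero]
    · intro hb; exact absurd (Finset.mem_range.2 (by omega)) hb
  have hdvd : ∀ i, minpoly ℤ (π i) ∣ Q := by
    intro i
    obtain ⟨z, hz⟩ := W.exists_root i
    refine W.dvd_of_root hz ?_
    have hz0 := W.root_ne_zero hz
    have hzbar : (starRingEnd ℂ) z = (q : ℂ) / z := by
      rw [eq_div_iff hz0, mul_comm, W.hconj i z hz]
    have hPz : aeval z P = 0 := by
      rw [hP, map_prod]
      exact Finset.prod_eq_zero (Finset.mem_univ i) (Polynomial.mem_aroots.1 hz).2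
    have hPzb : aeval ((starRingEnd ℂ) z) P = 0 := by
      have := Polynomial.aeval_algHom_apply ((starRingEnd ℂ).toIntAlgHom) z P
      rw [hPz, map_zero] at this
      exact this
    rw [hzbar, aeval_eq_sum_range, hdeg] at hPzb
    simp only [Q, map_sum, map_mul, aeval_C, map_pow, aeval_X]
    calc ∑ x ∈ range (n + 1), algebraMap ℤ ℂ (P.coeff x) * algebraMap ℤ ℂ q ^ x * z ^ (n - x)
        = ∑ x ∈ range (n + 1), z ^ n * (P.coeff x • ((q : ℂ) / z) ^ x) := by
          refine Finset.sum_congr rfl fun x hx => ?_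
          rw [Finset.mem_range] at hx
          have hzx : z ^ n = z ^ (n - x) * z ^ x := by rw [← pow_add, Nat.sub_add_cancel (by omega)]
          rw [hzx, zsmul_eq_mul, algebraMap_int_eq, eq_intCast, eq_intCast, div_pow]
          field_simp
      _ = 0 := by rw [← Finset.mul_sum, hPzb, mul_zero]
  have hQ : P ∣ Q := W.prod_dvd hdvd
  have hQdeg : Q.degree ≤ (n : ℕ) := by
    refine (Polynomial.degree_sum_le _ _).trans (Finset.sup_le fun b hb => ?_)
    exact (Polynomial.degree_C_mul_X_pow_le _ _).trans (by exact_mod_cast Nat.sub_le _ _)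
  have h0 : Q - C (P.coeff 0) * P = 0 := by
    refine Polynomial.eq_zero_of_dvd_of_degree_lt (dvd_sub hQ (dvd_mul_left _ _)) ?_
    rw [W.prod_monic.ne_zero |> Polynomial.degree_eq_natDegree, hdeg]
    rw [Polynomial.degree_lt_iff_coeff_zero]
    intro m hm
    have hm' : n ≤ m := by exact_mod_cast hm
    rw [coeff_sub, coeff_C_mul]
    rcases hm'.eq_or_lt with rfl | hlt
    · have := hQc 0 (Nat.zero_le _)
      rw [Nat.sub_zero, pow_zero, mul_one] at this
      rw [this, show P.coeff n = 1 by rw [← hdeg]; exact W.prod_monic.coeff_natDegree, mul_one, sub_self]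
    · rw [coeff_eq_zero_of_degree_lt (hQdeg.trans_lt (by exact_mod_cast hlt)),
        coeff_eq_zero_of_natDegree_lt (hdeg.trans_lt hlt), mul_zero, sub_zero]
  have := congrArg (fun G => Polynomial.coeff G (n - j)) (sub_eq_zero.1 h0)
  simpa [hQc j hj, coeff_C_mul] using this

theorem coeff_zero_sq {n : ℕ} (hn : ∑ i, (minpoly ℤ (π i)).natDegree = n) :
    (∏ i, minpoly ℤ (π i)).coeff 0 ^ 2 = q ^ n := by
  have h := W.coeff_mul_pow hn le_rfl
  rw [Nat.sub_self] at h
  have : (∏ i, minpoly ℤ (π i)).coeff n = 1 := by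
    rw [← hn, ← W.prod_natDegree]; exact W.prod_monic.coeff_natDegree
  rw [this, one_mul] at h
  rw [h, sq]

theorem exists_sign {D : ℕ} (hD : ∑ i, (minpoly ℤ (π i)).natDegree = 2 * D) :
    ∃ c : ℤ, c * c = 1 ∧ (∏ i, minpoly ℤ (π i)).coeff 0 = c * q ^ D ∧
      ∀ r ≤ D, (∏ i, minpoly ℤ (π i)).coeff (D - r) =
        c * q ^ r * (∏ i, minpoly ℤ (π i)).coeff (D + r) := by
  have h := W.coeff_zero_sq hD
  rw [pow_mul', ← sub_eq_zero, sq_sub_sq, mul_eq_zero] at h
  obtain ⟨c, hc, hc0⟩ : ∃ c : ℤ, c * c = 1 ∧ (∏ i, minpoly ℤ (π i)).coeff 0 = c * q ^ D := by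
    rcases h with h | h
    · exact ⟨-1, by norm_num, by linear_combination h⟩
    · exact ⟨1, by norm_num, by linear_combination h⟩
  refine ⟨c, hc, hc0, fun r hr => ?_⟩
  have h1 := W.coeff_mul_pow hD (j := D - r) (by omega)
  rw [show 2 * D - (D - r) = D + r by omega, hc0] at h1
  have hqpow : q ^ D = q ^ r * q ^ (D - r) := by rw [← pow_add, Nat.add_sub_cancel' hr]
  rw [hqpow] at h1
  exact mul_right_cancel₀ (pow_ne_zero (D - r) W.hq.ne') (by linear_combination h1)

end Fam

/-! ### Elimination of `V` -/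

/-- The polynomial `FV - q`. -/
noncomputable def rel (q : ℤ) : MvPolynomial (Fin 2) ℤ := MvPolynomial.X 0 * MvPolynomial.X 1 - MvPolynomial.C q

theorem exists_clear (q : ℤ) (g : MvPolynomial (Fin 2) ℤ) :
    ∃ (m : ℕ) (G : ℤ[X]), MvPolynomial.X 0 ^ m * g -
      Polynomial.aeval (MvPolynomial.X 0 : MvPolynomial (Fin 2) ℤ) G ∈ Ideal.span {rel q} := by
  induction g using MvPolynomial.induction_on with
  | C a => exact ⟨0, Polynomial.C a, by simp⟩
  | add f g hf hg =>
    obtain ⟨m, F, hm⟩ := hf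
    obtain ⟨n, G, hn⟩ := hg
    refine ⟨m + n, Polynomial.X ^ n * F + Polynomial.X ^ m * G, ?_⟩
    rw [map_add, map_mul, map_mul, map_pow, map_pow, Polynomial.aeval_X]
    convert add_mem (Ideal.mul_mem_left _ (MvPolynomial.X 0 ^ n) hm)
      (Ideal.mul_mem_left _ (MvPolynomial.X 0 ^ m) hn) using 1
    ring
  | mul_X g i hg =>
    obtain ⟨m, G, hm⟩ := hg
    fin_cases i
    · refine ⟨m, Polynomial.X * G, ?_⟩
      rw [map_mul, Polynomial.aeval_X]
      convert Ideal.mul_mem_left _ (MvPolynomial.X 0) hm using 1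
      simp only [Fin.zero_eta]; ring
    · refine ⟨m + 1, Polynomial.C q * G, ?_⟩
      rw [map_mul, Polynomial.aeval_C, MvPolynomial.algebraMap_eq]
      convert add_mem (Ideal.mul_mem_left _ (MvPolynomial.C q) hm)
        (Ideal.mul_mem_left _ (MvPolynomial.X 0 ^ m * g) (Ideal.mem_span_singleton_self (rel q))) using 1
      simp only [rel, Fin.mk_one]; ring

theorem cancel_X0 {q : ℤ} (hq : q ≠ 0) {g : MvPolynomial (Fin 2) ℤ}
    (h : MvPolynomial.X 0 * g ∈ Ideal.span {rel q}) : g ∈ Ideal.span {rel q} := by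
  obtain ⟨u, hu⟩ := Ideal.mem_span_singleton.1 h
  let σ : MvPolynomial (Fin 2) ℤ →ₐ[ℤ] MvPolynomial (Fin 2) ℤ := MvPolynomial.aeval ![0, MvPolynomial.X 1]
  have hσ : ∀ f, MvPolynomial.X 0 ∣ f - σ f := by
    intro f
    induction f using MvPolynomial.induction_on with
    | C a => simp [σ]
    | add a b ha hb => rw [map_add, add_sub_add_comm]; exact dvd_add ha hb
    | mul_X a i ha =>
      rw [map_mul]
      fin_cases i
      · simp [σ]
      · have : σ (MvPolynomial.X 1) = MvPolynomial.X 1 := by simp [σ]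
        simp only [Fin.mk_one, this, ← sub_mul]; exact ha.mul_right _
  have h0 : σ u = 0 := by
    have := congrArg σ hu
    simpa [σ, rel, hq, MvPolynomial.algebraMap_eq] using this
  obtain ⟨w, hw⟩ := hσ u
  rw [h0, sub_zero] at hw
  refine Ideal.mem_span_singleton.2 ⟨w, ?_⟩
  refine mul_left_cancel₀ (MvPolynomial.X_ne_zero (0 : Fin 2)) ?_
  rw [hu, hw]; ring

theorem cancel_X0_pow {q : ℤ} (hq : q ≠ 0) {g : MvPolynomial (Fin 2) ℤ} (m : ℕ)
    (h : MvPolynomial.X 0 ^ m * g ∈ Ideal.span {rel q}) : g ∈ Ideal.span {rel q} := by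
  induction m with
  | zero => simpa using h
  | succ m ih => exact ih (cancel_X0 hq (by rwa [← mul_assoc, ← pow_succ']))

theorem eq_zero_of_aeval_mem {q : ℤ} (hq : q ≠ 0) {G : ℤ[X]}
    (h : Polynomial.aeval (MvPolynomial.X 0 : MvPolynomial (Fin 2) ℤ) G ∈ Ideal.span {rel q}) : G = 0 := by
  obtain ⟨u, hu⟩ := Ideal.mem_span_singleton.1 h
  have : ∀ t : ℚ, t ≠ 0 → (G.map (Int.castRingHom ℚ)).eval t = 0 := by
    intro t ht
    have := congrArg (MvPolynomial.aeval ![t, (q : ℚ) / t]) hu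
    rw [← Polynomial.aeval_algHom_apply, MvPolynomial.aeval_X, map_mul] at this
    rw [Polynomial.eval_map]
    simp [rel, mul_div_cancel₀ (q : ℚ) ht] at this
    exact this
  refine (Polynomial.map_eq_zero_iff (Int.castRingHom ℚ).injective_int).1 ?_
  refine Polynomial.eq_zero_of_infinite_isRoot _ (Set.Infinite.mono ?_ (Set.finite_singleton (0 : ℚ)).infinite_compl)
  exact fun t ht => this t ht

theorem mem_of_mul_mem {q : ℤ} (hq : q ≠ 0) {P : ℤ[X]} (hP : P ≠ 0) {h g : MvPolynomial (Fin 2) ℤ} {D : ℕ}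
    (hh : MvPolynomial.X 0 ^ D * h - Polynomial.aeval (MvPolynomial.X 0 : MvPolynomial (Fin 2) ℤ) P ∈
      Ideal.span {rel q}) (hg : h * g ∈ Ideal.span {rel q}) : g ∈ Ideal.span {rel q} := by
  obtain ⟨m, G, hm⟩ := exists_clear q g
  have : Polynomial.aeval (MvPolynomial.X 0 : MvPolynomial (Fin 2) ℤ) (P * G) ∈ Ideal.span {rel q} := by
    have h1 := Ideal.mul_mem_left _ (MvPolynomial.X 0 ^ D * MvPolynomial.X 0 ^ m) hg
    have h2 := Ideal.mul_mem_left _ (MvPolynomial.X 0 ^ D * h) hm
    have h3 := Ideal.mul_mem_left _ (Polynomial.aeval (MvPolynomial.X 0 : MvPolynomial (Fin 2) ℤ) G) hh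
    rw [map_mul]
    convert sub_mem (sub_mem h1 h2) h3 using 1
    ring
  have hG := (mul_eq_zero.1 (eq_zero_of_aeval_mem hq this)).resolve_left hP
  rw [hG, map_zero, sub_zero] at hm
  exact cancel_X0_pow hq m hm

/-! ### The map to the product -/

/-- `ℤ[F,V] → ∏ K_i`, `F ↦ π`, `V ↦ q/π`. -/
noncomputable def toProd (q : ℤ) (π : ∀ i, K i) : MvPolynomial (Fin 2) ℤ →ₐ[ℤ] ((i : ι) → K i) :=
  MvPolynomial.aeval ![fun i => π i, fun i => (q : K i) / π i]

theorem toProd_X0 (i : ι) : toProd q π (MvPolynomial.X 0) i = π i := by simp [toProd]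

theorem toProd_aeval_X0 (G : ℤ[X]) (i : ι) :
    toProd q π (Polynomial.aeval (MvPolynomial.X 0 : MvPolynomial (Fin 2) ℤ) G) i = Polynomial.aeval (π i) G := by
  have := Polynomial.aeval_algHom_apply ((Pi.evalAlgHom ℤ K i).comp (toProd q π)) (MvPolynomial.X 0) G
  simpa [toProd_X0] using this.symm

namespace Fam

variable [Fintype ι] (W : Fam q K π) {D : ℕ}
include W

theorem toProd_rel : toProd q π (rel q) = 0 := by
  funext i
  have h := mul_div_cancel₀ (q : K i) (W.pi_ne_zero i)
  simp [toProd, rel, h]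

theorem span_rel_le_ker : Ideal.span {rel q} ≤ RingHom.ker (toProd q π) := by
  rw [Ideal.span_singleton_le_iff_mem, RingHom.mem_ker]; exact W.toProd_rel

theorem toProd_aeval_eq_zero_iff (G : ℤ[X]) :
    toProd q π (Polynomial.aeval (MvPolynomial.X 0 : MvPolynomial (Fin 2) ℤ) G) = 0 ↔
      (∏ i, minpoly ℤ (π i)) ∣ G := by
  constructor
  · intro h
    refine W.prod_dvd fun i => minpoly.isIntegrallyClosed_dvd (W.hint i) ?_
    rw [← toProd_aeval_X0 (q := q), h]; rfl
  · intro h
    funext i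
    rw [toProd_aeval_X0]
    exact Polynomial.aeval_eq_zero_of_dvd_aeval_eq_zero
      ((Finset.dvd_prod_of_mem _ (Finset.mem_univ i)).trans h) (minpoly.aeval ℤ (π i))

theorem toProd_h {h : MvPolynomial (Fin 2) ℤ}
    (hh : MvPolynomial.X 0 ^ D * h - Polynomial.aeval (MvPolynomial.X 0 : MvPolynomial (Fin 2) ℤ)
      (∏ i, minpoly ℤ (π i)) ∈ Ideal.span {rel q}) : toProd q π h = 0 := by
  have := W.span_rel_le_ker hh
  rw [RingHom.mem_ker, map_sub, (W.toProd_aeval_eq_zero_iff _).2 dvd_rfl, sub_zero, map_mul, map_pow] at this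
  funext i
  have h2 := congrFun this i
  simp only [Pi.mul_apply, Pi.pow_apply, toProd_X0, Pi.zero_apply] at h2 ⊢
  exact (mul_eq_zero.1 h2).resolve_left (pow_ne_zero _ (W.pi_ne_zero i))

/-- The canonical choice of `h`. -/
theorem exists_h (hD : ∑ i, (minpoly ℤ (π i)).natDegree = 2 * D) :
    ∃ c : ℤ, c * c = 1 ∧
    MvPolynomial.X 0 ^ D * ((∑ r ∈ range (D + 1),
          MvPolynomial.C ((∏ i, minpoly ℤ (π i)).coeff (D + r)) * MvPolynomial.X 0 ^ r) +
        ∑ r ∈ range D, MvPolynomial.C (c * (∏ i, minpoly ℤ (π i)).coeff (D + r + 1)) *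
          MvPolynomial.X 1 ^ (r + 1)) -
      Polynomial.aeval (MvPolynomial.X 0 : MvPolynomial (Fin 2) ℤ) (∏ i, minpoly ℤ (π i)) ∈
        Ideal.span {rel q} := by
  obtain ⟨c, hc, -, hcr⟩ := W.exists_sign hD
  refine ⟨c, hc, ?_⟩
  set P := ∏ i, minpoly ℤ (π i) with hP
  have hdeg : P.natDegree = 2 * D := by rw [hP, W.prod_natDegree, hD]
  rw [← Ideal.Quotient.eq_zero_iff_mem, map_sub, map_mul, map_pow, map_add, map_sum, map_sum,
    Polynomial.aeval_eq_sum_range, hdeg, map_sum, show 2 * D + 1 = D + (D + 1) by omega,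
    Finset.sum_range_add _ D (D + 1)]
  set ρ := Ideal.Quotient.mk (Ideal.span {rel q}) with hρ
  have hxy : ρ (MvPolynomial.X 0) * ρ (MvPolynomial.X 1) = ρ (MvPolynomial.C q) := by
    rw [← map_mul, hρ, Ideal.Quotient.eq]
    exact Ideal.mem_span_singleton_self _
  have hs : ∀ (a : ℤ) (k : ℕ), ρ (a • (MvPolynomial.X 0 : MvPolynomial (Fin 2) ℤ) ^ k) =
      ρ (MvPolynomial.C a) * ρ (MvPolynomial.X 0) ^ k := by
    intro a k
    rw [MvPolynomial.smul_eq_C_mul, map_mul, map_pow]
  simp only [hs, map_mul, map_pow, mul_add, Finset.mul_sum]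
  have e1 : ∑ x ∈ range (D + 1), ρ (MvPolynomial.X 0) ^ D * (ρ (MvPolynomial.C (P.coeff (D + x))) * ρ (MvPolynomial.X 0) ^ x)
      = ∑ x ∈ range (D + 1), ρ (MvPolynomial.C (P.coeff (D + x))) * ρ (MvPolynomial.X 0) ^ (D + x) :=
    Finset.sum_congr rfl fun x _ => by rw [pow_add]; ring
  have e2 : ∑ x ∈ range D, ρ (MvPolynomial.X 0) ^ D * (ρ (MvPolynomial.C c) * ρ (MvPolynomial.C (P.coeff (D + x + 1))) * ρ (MvPolynomial.X 1) ^ (x + 1))
      = ∑ x ∈ range D, ρ (MvPolynomial.C (P.coeff x)) * ρ (MvPolynomial.X 0) ^ x := by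
    rw [← Finset.sum_range_reflect (fun x => ρ (MvPolynomial.C (P.coeff x)) * ρ (MvPolynomial.X 0) ^ x) D]
    refine Finset.sum_congr rfl fun x hx => ?_
    rw [Finset.mem_range] at hx
    have h1 := hcr (x + 1) (by omega)
    rw [show D - (x + 1) = D - 1 - x by omega, show D + (x + 1) = D + x + 1 by omega] at h1
    rw [h1, show ρ (MvPolynomial.X 0) ^ D = ρ (MvPolynomial.X 0) ^ (x + 1) * ρ (MvPolynomial.X 0) ^ (D - 1 - x) by
      rw [← pow_add]; congr 1; omega]
    simp only [map_mul, map_pow, ← hxy, mul_pow]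
    ring
  rw [e1, e2]
  abel

/-- The images of `1, F, …, F^{D-1}, V, …, V^D` span the quotient `ℤ[F,V]/(FV-q, h)`. -/
theorem span_quotient (hD : ∑ i, (minpoly ℤ (π i)).natDegree = 2 * D) {h : MvPolynomial (Fin 2) ℤ}
    (hh : MvPolynomial.X 0 ^ D * h - Polynomial.aeval (MvPolynomial.X 0 : MvPolynomial (Fin 2) ℤ)
      (∏ i, minpoly ℤ (π i)) ∈ Ideal.span {rel q}) :
    ∃ g : Fin D ⊕ Fin D → MvPolynomial (Fin 2) ℤ,
      Submodule.span ℤ (Set.range fun j => Ideal.Quotient.mk (Ideal.span {rel q, h}) (g j)) = ⊤ := by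
  classical
  refine ⟨Sum.elim (fun i => MvPolynomial.X 0 ^ (i : ℕ)) (fun i => MvPolynomial.X 1 ^ ((i : ℕ) + 1)), ?_⟩
  obtain ⟨c, hc, h0⟩ := W.exists_h hD
  set P := ∏ i, minpoly ℤ (π i) with hP
  have htop : P.coeff (D + D) = 1 := by
    rw [show D + D = P.natDegree by rw [hP, W.prod_natDegree, hD]; omega]
    exact W.prod_monic.coeff_natDegree
  set J := Ideal.span {rel q, h} with hJ
  set ρ := Ideal.Quotient.mk J with hρ
  set x := ρ (MvPolynomial.X 0) with hx
  set y := ρ (MvPolynomial.X 1) with hy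
  set g' := fun j => ρ (Sum.elim (fun i : Fin D => MvPolynomial.X 0 ^ (i : ℕ))
    (fun i : Fin D => MvPolynomial.X 1 ^ ((i : ℕ) + 1)) j) with hg'
  set N := Submodule.span ℤ (Set.range g') with hN
  have hsub := sub_mem hh h0
  rw [sub_sub_sub_cancel_right, ← mul_sub] at hsub
  have hrel0 : ρ (rel q) = 0 :=
    Ideal.Quotient.eq_zero_iff_mem.2 (Ideal.subset_span (Set.mem_insert _ _))
  have hrel1 : ρ h = 0 :=
    Ideal.Quotient.eq_zero_iff_mem.2 (Ideal.subset_span (Set.mem_insert_of_mem _ rfl))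
  have hrelation : (∑ r ∈ range (D + 1), P.coeff (D + r) • x ^ r) +
      ∑ r ∈ range D, (c * P.coeff (D + r + 1)) • y ^ (r + 1) = 0 := by
    have h2 := cancel_X0_pow W.hq.ne' D hsub
    have h3 : ρ (h - _) = 0 := Ideal.Quotient.eq_zero_iff_mem.2
      (Ideal.span_mono (Set.singleton_subset_iff.2 (Set.mem_insert _ _)) h2)
    rw [map_sub, hrel1, zero_sub, neg_eq_zero, map_add, map_sum, map_sum] at h3
    rw [← h3]
    congr 1 <;>
    · refine Finset.sum_congr rfl fun r _ => ?_
      rw [zsmul_eq_mul, map_mul, map_pow]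
      rfl
  have hxy : x * y = ((q : ℤ) : _ ⧸ J) := by
    have : ρ (rel q) = x * y - ρ (MvPolynomial.C q) := by simp [rel, hx, hy]
    rw [hrel0] at this
    rw [sub_eq_zero.1 this.symm]; rfl
  have hxmem : ∀ i, i < D → x ^ i ∈ N := fun i hi => by
    refine Submodule.subset_span ⟨Sum.inl ⟨i, hi⟩, ?_⟩; simp [g', x]
  have hymem : ∀ i, i < D → y ^ (i + 1) ∈ N := fun i hi => by
    refine Submodule.subset_span ⟨Sum.inr ⟨i, hi⟩, ?_⟩; simp [g', y]
  have hx' : ∀ i, i ≤ D → x ^ i ∈ N := by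
    intro i hi
    rcases hi.eq_or_lt with rfl | hlt
    · rw [Finset.sum_range_succ, htop, one_smul, add_right_comm, add_eq_zero_iff_eq_neg'] at hrelation
      rw [hrelation]
      exact neg_mem (add_mem (sum_mem fun r hr => N.smul_mem _ (hxmem r (Finset.mem_range.1 hr)))
        (sum_mem fun r hr => N.smul_mem _ (hymem r (Finset.mem_range.1 hr))))
    · exact hxmem i hlt
  have hy' : ∀ i, i ≤ D → y ^ i ∈ N := by
    intro i hi
    rcases i with _ | i
    · rw [pow_zero]
      simpa using hx' 0 (Nat.zero_le _)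
    · exact hymem i (by omega)
  have hyx : ∀ i, i ≤ D → y * x ^ i ∈ N := by
    intro i hi
    rcases i with _ | i
    · rw [pow_zero, mul_one]
      rcases D.eq_zero_or_pos with hD0 | hpos
      · subst hD0
        have h01 : (1 : MvPolynomial (Fin 2) ℤ ⧸ J) = 0 := by
          simp only [add_zero, Finset.sum_range_succ, Finset.sum_range_zero, zero_add, pow_zero] at hrelation
          have ht := htop; simp only [add_zero] at ht
          rw [ht, one_smul] at hrelation; exact hrelation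
        rw [show y = y * 1 from (mul_one _).symm, h01, mul_zero]; exact zero_mem _
      · simpa using hy' 1 hpos
    · rw [pow_succ', ← mul_assoc, mul_comm y, hxy, ← zsmul_eq_mul]
      exact N.smul_mem _ (hx' i (by omega))
  have hytop : ∀ i, i ≤ D + 1 → y ^ i ∈ N := by
    intro i hi
    rcases hi.eq_or_lt with rfl | hlt
    swap
    · exact hy' i (by omega)
    rcases D with _ | k
    · simpa using hyx 0 le_rfl
    have h4 := congrArg (y * ·) hrelation
    simp only [mul_add, Finset.mul_sum, mul_zero, mul_smul_comm, ← pow_succ'] at h4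
    rw [Finset.sum_range_succ _ k, ← add_assoc] at h4
    have ht : P.coeff (k + 1 + k + 1) = 1 := by rw [add_assoc]; exact htop
    rw [ht, mul_one] at h4
    have hmem : c • y ^ (k + 1 + 1) ∈ N := by
      rw [(eq_neg_of_add_eq_zero_right h4)]
      exact neg_mem (add_mem (sum_mem fun r hr => N.smul_mem _ (hyx r (by rw [Finset.mem_range] at hr; omega)))
        (sum_mem fun r hr => N.smul_mem _ (hy' (r + 1 + 1) (by rw [Finset.mem_range] at hr; omega))))
    have := N.smul_mem c hmem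
    rwa [smul_smul, hc, one_smul] at this
  have hmulx : ∀ a ∈ N, x * a ∈ N := by
    intro a ha
    induction ha using Submodule.span_induction with
    | mem z hz =>
      obtain ⟨j, rfl⟩ := hz
      rcases j with ⟨i, hi⟩ | ⟨i, hi⟩
      · simp only [g', Sum.elim_inl, map_pow, ← hx, ← pow_succ']; exact hx' _ (by omega)
      · simp only [g', Sum.elim_inr, map_pow, ← hy]
        rw [pow_succ', ← mul_assoc, hxy, ← zsmul_eq_mul]
        exact N.smul_mem _ (hy' i (by omega))
    | zero => simp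
    | add a b _ _ ha hb => rw [mul_add]; exact add_mem ha hb
    | smul n a _ ha => rw [mul_smul_comm]; exact N.smul_mem _ ha
  have hmuly : ∀ a ∈ N, y * a ∈ N := by
    intro a ha
    induction ha using Submodule.span_induction with
    | mem z hz =>
      obtain ⟨j, rfl⟩ := hz
      rcases j with ⟨i, hi⟩ | ⟨i, hi⟩
      · simp only [g', Sum.elim_inl, map_pow, ← hx]; exact hyx _ (by omega)
      · simp only [g', Sum.elim_inr, map_pow, ← hy, ← pow_succ']; exact hytop _ (by omega)
    | zero => simp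
    | add a b _ _ ha hb => rw [mul_add]; exact add_mem ha hb
    | smul n a _ ha => rw [mul_smul_comm]; exact N.smul_mem _ ha
  refine Submodule.eq_top_iff'.2 fun z => ?_
  obtain ⟨f, rfl⟩ := Ideal.Quotient.mk_surjective z
  show ρ f ∈ N
  induction f using MvPolynomial.induction_on with
  | C a =>
    have : ρ (MvPolynomial.C a) = a • (1 : _ ⧸ J) := by rw [zsmul_one]; rfl
    rw [this]
    exact N.smul_mem _ (by simpa using hx' 0 (Nat.zero_le _))
  | add f g hf hg => rw [map_add]; exact add_mem hf hg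
  | mul_X f i hf =>
    rw [map_mul, mul_comm]
    fin_cases i
    · exact hmulx _ hf
    · exact hmuly _ hf

/-- The kernel theorem, with the rank of the image. -/
theorem ker_and_rank (hD : ∑ i, (minpoly ℤ (π i)).natDegree = 2 * D) {h : MvPolynomial (Fin 2) ℤ}
    (hh : MvPolynomial.X 0 ^ D * h - Polynomial.aeval (MvPolynomial.X 0 : MvPolynomial (Fin 2) ℤ)
      (∏ i, minpoly ℤ (π i)) ∈ Ideal.span {rel q}) :
    RingHom.ker (toProd q π) = Ideal.span {rel q, h} ∧ Module.Free ℤ (toProd q π).range ∧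
      Module.Finite ℤ (toProd q π).range ∧ Module.finrank ℤ (toProd q π).range = 2 * D := by
  classical
  have hle : Ideal.span {rel q, h} ≤ RingHom.ker (toProd q π) := by
    rw [Ideal.span_le, Set.insert_subset_iff, Set.singleton_subset_iff]
    exact ⟨W.toProd_rel, W.toProd_h hh⟩
  obtain ⟨g, hg⟩ := W.span_quotient hD hh
  let R := (toProd q π).range
  let ψ : (MvPolynomial (Fin 2) ℤ ⧸ Ideal.span {rel q, h}) →+* R :=
    Ideal.Quotient.lift _ (toProd q π).rangeRestrict.toRingHom
      (fun a ha => Subtype.ext (RingHom.mem_ker.1 (hle ha)))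
  have hψ : Function.Surjective ψ := by
    intro r
    obtain ⟨r, a, rfl⟩ := r
    exact ⟨Ideal.Quotient.mk _ a, rfl⟩
  let ψl := ψ.toIntAlgHom.toLinearMap
  have hspanR : Submodule.span ℤ (Set.range fun j => ψl (Ideal.Quotient.mk _ (g j))) = ⊤ := by
    rw [show (fun j => ψl (Ideal.Quotient.mk _ (g j))) = ψl ∘ (fun j => Ideal.Quotient.mk _ (g j)) from rfl,
      Set.range_comp, Submodule.span_image, hg, Submodule.map_top]
    exact LinearMap.range_eq_top.2 hψ
  have hfin : Module.Finite ℤ R := ⟨by rw [← hspanR]; exact Submodule.fg_span (Set.finite_range _)⟩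
  have : Module.IsTorsionFree ℤ ((i : ι) → K i) := inferInstance
  have hTF : Module.IsTorsionFree ℤ R :=
    Function.Injective.moduleIsTorsionFree (R := ℤ) (fun r : R => (r : (i : ι) → K i)) Subtype.val_injective (fun _ _ => rfl)
  have hfree : Module.Free ℤ R := inferInstance
  have hle2 : Module.finrank ℤ R ≤ 2 * D := by
    have h1 := finrank_range_le_card (R := ℤ) (fun j => ψl (Ideal.Quotient.mk _ (g j)))
    rw [Set.finrank, hspanR, finrank_top, Fintype.card_sum, Fintype.card_fin] at h1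
    omega
  have hge : 2 * D ≤ Module.finrank ℤ R := by
    let f : Fin (2 * D) → R := fun j => (toProd q π).rangeRestrict (MvPolynomial.X 0) ^ (j : ℕ)
    have hf : LinearIndependent ℤ f := by
      rw [Fintype.linearIndependent_iff]
      intro a ha
      let G : ℤ[X] := ∑ j : Fin (2 * D), C (a j) * X ^ (j : ℕ)
      have hG0 : toProd q π (Polynomial.aeval (MvPolynomial.X 0 : MvPolynomial (Fin 2) ℤ) G) = 0 := by
        have h5 := congrArg Subtype.val ha
        simp only [f, AddSubmonoidClass.coe_finsetSum, SetLike.val_smul, SubmonoidClass.coe_pow] at h5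
        refine Eq.trans ?_ h5
        simp [G, Algebra.smul_def]
      rw [W.toProd_aeval_eq_zero_iff] at hG0
      have hGdeg : G.degree < (2 * D : ℕ) := degree_sum_fin_lt a
      have hG : G = 0 := Polynomial.eq_zero_of_dvd_of_degree_lt hG0 (by
        rwa [Polynomial.degree_eq_natDegree W.prod_monic.ne_zero, W.prod_natDegree, hD])
      intro i
      have := congrArg (fun F => Polynomial.coeff F (i : ℕ)) hG
      simpa [G, finsetSum_coeff, coeff_C_mul, coeff_X_pow, Fin.val_inj] using this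
    simpa using hf.fintype_card_le_finrank
  have hrank : Module.finrank ℤ R = 2 * D := le_antisymm hle2 hge
  refine ⟨le_antisymm (fun a ha => ?_) hle, hfree, hfin, hrank⟩
  have hind : LinearIndependent ℤ (fun j => ψl (Ideal.Quotient.mk _ (g j))) := by
    let e : R ≃ₗ[ℤ] (Fin D ⊕ Fin D → ℤ) := LinearEquiv.ofFinrankEq _ _ (by
      rw [hrank, Module.finrank_fintype_fun_eq_card, Fintype.card_sum, Fintype.card_fin]; omega)
    let L := Fintype.linearCombination ℤ (fun j => ψl (Ideal.Quotient.mk _ (g j)))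
    have hL : Function.Surjective L := by
      rw [← LinearMap.range_eq_top, Fintype.range_linearCombination]; exact hspanR
    rw [linearIndependent_iff_injective_fintypeLinearCombination]
    have h7 := OrzechProperty.injective_of_surjective_endomorphism (e.toLinearMap ∘ₗ L) (e.surjective.comp hL)
    exact fun u v huv => h7 (congrArg e huv)
  have hmem : Ideal.Quotient.mk (Ideal.span {rel q, h}) a ∈
      Submodule.span ℤ (Set.range fun j => Ideal.Quotient.mk (Ideal.span {rel q, h}) (g j)) := hg ▸ trivial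
  obtain ⟨co, hco⟩ := (Submodule.mem_span_range_iff_exists_fun ℤ).1 hmem
  rw [← Ideal.Quotient.eq_zero_iff_mem, ← hco]
  have h6 : ∑ j, co j • ψl (Ideal.Quotient.mk _ (g j)) = 0 := by
    rw [← (map_sum ψl _ _).trans (Finset.sum_congr rfl fun j _ => map_smul ψl _ _), hco]
    exact Subtype.ext ha
  have := Fintype.linearIndependent_iff.1 hind co h6
  simp [this]

end Fam

end Groth.Agent.WeilNumLib
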